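import Mathlib

/-! Determinants of a pair of lattices with quotient killed by a prime. -/

set_option autoImplicit false
set_option linter.style.haveILetI false
universe u

open Matrix

namespace Groth.Agent.H11DetMod

variable {R K : Type u} [CommRing R] [IsDomain R] [Field K] [Algebra R K] [IsFractionRing R K] {r : ℕ}

/-- The values of the determinant on tuples from a submodule. -/
def detSpan (M : Submodule R (Fin r → K)) : Submodule R K :=
  Submodule.span R {z | ∃ e : Fin r → (Fin r → K), (∀ i, e i ∈ M) ∧ z = (Matrix.of e).det}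

omit [IsDomain R] [IsFractionRing R K] in
theorem detSpan_eq (M : Submodule R (Fin r → K)) (b : Fin r → (Fin r → K)) (hb : Submodule.span R (Set.range b) = M) :
    detSpan M = Submodule.span R {(Matrix.of b).det} := by
  classical
  refine le_antisymm (Submodule.span_le.2 ?_) (Submodule.span_mono (Set.singleton_subset_iff.2
    ⟨b, fun i => hb.le (Submodule.subset_span ⟨i, rfl⟩), rfl⟩))
  rintro _ ⟨e, he, rfl⟩
  have h : ∀ i, ∃ c : Fin r → R, ∑ j, c j • b j = e i := fun i =>
    (Submodule.mem_span_range_iff_exists_fun R).1 (hb.ge (he i))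
  choose c hc using h
  have hmul : Matrix.of e = (Matrix.of c).map (algebraMap R K) * Matrix.of b := by
    ext i l
    rw [Matrix.mul_apply]
    have h1 := congrFun (hc i) l
    rw [Finset.sum_apply] at h1
    exact h1.symm.trans (Finset.sum_congr rfl fun j _ => by
      rw [Pi.smul_apply, Algebra.smul_def]; rfl)
  rw [SetLike.mem_coe, Submodule.mem_span_singleton]
  refine ⟨(Matrix.of c).det, ?_⟩
  rw [hmul, Matrix.det_mul, Algebra.smul_def, RingHom.map_det]
  rfl

variable [IsPrincipalIdealRing R]

/-- A lattice has a basis of full size. -/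
theorem exists_basis (M : Submodule R (Fin r → K)) (hfg : M.FG)
    (hspan : Submodule.span K (M : Set (Fin r → K)) = ⊤) : Nonempty (Module.Basis (Fin r) R M) := by
  classical
  haveI : Module.Finite R M := Module.Finite.iff_fg.2 hfg
  haveI : Module.IsTorsionFree R (Fin r → K) := inferInstance
  haveI : Module.Free R M := Module.free_of_finite_type_torsion_free'
  let bb := Module.Free.chooseBasis R M
  haveI := Fintype.ofFinite (Module.Free.ChooseBasisIndex R M)
  have hli : LinearIndependent R fun i => ((bb i : M) : Fin r → K) :=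
    bb.linearIndependent.map' M.subtype (Submodule.ker_subtype M)
  rw [LinearIndependent.iff_fractionRing (R := R) (K := K)] at hli
  have hsp : ⊤ ≤ Submodule.span K (Set.range fun i => ((bb i : M) : Fin r → K)) := by
    rw [← hspan, Submodule.span_le]
    intro v hv
    have h1 : (⟨v, hv⟩ : M) ∈ Submodule.span R (Set.range bb) := bb.span_eq ▸ Submodule.mem_top
    obtain ⟨c, hc⟩ := (Submodule.mem_span_range_iff_exists_fun R).1 h1
    have hc' := congrArg M.subtype hc
    rw [map_sum] at hc'
    rw [SetLike.mem_coe, show v = M.subtype ⟨v, hv⟩ from rfl, ← hc']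
    refine sum_mem fun i _ => ?_
    rw [map_smul, ← algebraMap_smul K]
    exact Submodule.smul_mem _ _ (Submodule.subset_span ⟨i, rfl⟩)
  have hcard : Fintype.card (Module.Free.ChooseBasisIndex R M) = r := by
    have := Module.finrank_eq_card_basis (Module.Basis.mk hli hsp)
    rw [Module.finrank_fin_fun] at this
    exact this.symm
  exact ⟨bb.reindex (Fintype.equivFinOfCardEq hcard)⟩

omit [IsDomain R] [IsFractionRing R K] [IsPrincipalIdealRing R] in
theorem det_ne_zero_of_span (M : Submodule R (Fin r → K)) (b : Fin r → (Fin r → K))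
    (hb : Submodule.span R (Set.range b) = M) (hspan : Submodule.span K (M : Set (Fin r → K)) = ⊤) :
    (Matrix.of b).det ≠ 0 := by
  have hsp : ⊤ ≤ Submodule.span K (Set.range b) := by
    rw [← hspan, ← hb, Submodule.span_span_of_tower]
  have hli : LinearIndependent K b := linearIndependent_of_top_le_span_of_card_eq_finrank hsp (by simp)
  exact ((Matrix.isUnit_iff_isUnit_det (Matrix.of b)).1
    (Matrix.linearIndependent_rows_iff_isUnit.1 hli)).ne_zero

/-- The determinant span of a lattice is free of rank one. -/
theorem exists_detSpan_eq (M : Submodule R (Fin r → K)) (hfg : M.FG)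
    (hspan : Submodule.span K (M : Set (Fin r → K)) = ⊤) :
    ∃ δ : K, δ ≠ 0 ∧ detSpan M = Submodule.span R {δ} := by
  obtain ⟨b⟩ := exists_basis M hfg hspan
  have hb : Submodule.span R (Set.range fun i => ((b i : M) : Fin r → K)) = M := by
    rw [show (fun i => ((b i : M) : Fin r → K)) = M.subtype ∘ b from rfl, Set.range_comp, Submodule.span_image,
      b.span_eq, Submodule.map_top, Submodule.range_subtype]
  exact ⟨_, det_ne_zero_of_span M _ hb hspan, detSpan_eq M _ hb⟩

/-- Two lattices with quotient generated by `s` elements and killed by a prime. -/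
theorem exists_pow {π : R} (hπ : Prime π) (M M' : Submodule R (Fin r → K)) (hfg : M'.FG)
    (hspan : Submodule.span K (M : Set (Fin r → K)) = ⊤) (hle : M ≤ M') (hkill : ∀ m ∈ M', π • m ∈ M)
    {s : ℕ} (g : Fin s → (Fin r → K)) (hgen : M' ≤ M ⊔ Submodule.span R (Set.range g)) (hg : ∀ i, g i ∈ M') :
    ∃ k : ℕ, k ≤ min s r ∧ ∃ δ : K, δ ≠ 0 ∧ detSpan M' = Submodule.span R {δ} ∧
      detSpan M = Submodule.span R {algebraMap R K π ^ k * δ} := by
  classical
  have hspan' : Submodule.span K (M' : Set (Fin r → K)) = ⊤ :=
    eq_top_iff.2 (hspan ▸ Submodule.span_mono hle)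
  obtain ⟨bb⟩ := exists_basis M' hfg hspan'
  obtain ⟨n, snf⟩ := Submodule.smithNormalForm bb (M.comap M'.subtype)
  have hsurj : Function.Surjective snf.f := fun i => by
    by_contra hi
    push Not at hi
    have hm : π • snf.bM i ∈ M.comap M'.subtype := hkill _ (snf.bM i).2
    have h1 := snf.repr_eq_zero_of_notMem_range ⟨_, hm⟩ (i := i) (fun ⟨j, hj⟩ => hi j hj)
    simp only [map_smul, Finsupp.smul_apply, Module.Basis.repr_self, Finsupp.single_eq_same, smul_eq_mul,
      mul_one] at h1
    exact hπ.ne_zero h1
  let e : Fin n ≃ Fin r := Equiv.ofBijective snf.f ⟨snf.f.injective, hsurj⟩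
  let a : Fin r → R := fun i => snf.a (e.symm i)
  let B' : Fin r → (Fin r → K) := fun i => ((snf.bM i : M') : Fin r → K)
  let B : Fin r → (Fin r → K) := fun i => (((snf.bN (e.symm i) : M.comap M'.subtype) : M') : Fin r → K)
  have hBB : ∀ i, B i = a i • B' i := fun i => by
    have h1 := congrArg (fun x : M' => (x : Fin r → K)) (snf.snf (e.symm i))
    have h2 : snf.f (e.symm i) = i := e.apply_symm_apply i
    rw [h2] at h1
    exact h1
  have hB' : Submodule.span R (Set.range B') = M' := by
    rw [show B' = M'.subtype ∘ snf.bM from rfl, Set.range_comp, Submodule.span_image,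
      snf.bM.span_eq, Submodule.map_top, Submodule.range_subtype]
  have hB : Submodule.span R (Set.range B) = M := by
    rw [show B = (M'.subtype.comp (M.comap M'.subtype).subtype) ∘ (snf.bN ∘ e.symm) from rfl, Set.range_comp,
      Submodule.span_image, Set.range_comp, e.symm.range_eq_univ, Set.image_univ, snf.bN.span_eq,
      Submodule.map_top, LinearMap.range_comp, Submodule.range_subtype, Submodule.map_comap_subtype]
    exact inf_eq_right.2 hle
  have hdvd : ∀ i, a i ∣ π := fun i => by
    have hm : π • snf.bM i ∈ M.comap M'.subtype := hkill _ (snf.bM i).2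
    have h1 := snf.repr_apply_embedding_eq_repr_smul ⟨_, hm⟩ (i := e.symm i)
    rw [show snf.f (e.symm i) = i from e.apply_symm_apply i] at h1
    simp only [map_smul, Finsupp.smul_apply, Module.Basis.repr_self, Finsupp.single_eq_same, smul_eq_mul,
      mul_one] at h1
    exact Dvd.intro _ h1.symm
  let S := Finset.univ.filter fun i => ¬ IsUnit (a i)
  have hass : ∀ i ∈ S, Associated π (a i) := fun i hi =>
    ((hπ.irreducible.dvd_iff.1 (hdvd i)).resolve_left (Finset.mem_filter.1 hi).2)
  have hk : S.card ≤ s := by
    haveI := Ideal.Quotient.nontrivial_iff.2 (show Ideal.span {π} ≠ ⊤ from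
      fun h => hπ.not_isUnit (Ideal.span_singleton_eq_top.1 h))
    let κ := R ⧸ Ideal.span {π}
    haveI : Nontrivial κ := this
    let q : M' →ₗ[R] (S → κ) := LinearMap.pi fun i =>
      (Ideal.span {π}).mkQ.comp ((Finsupp.lapply i.1).comp snf.bM.repr.toLinearMap)
    have hqN : ∀ x : M', (x : Fin r → K) ∈ M → q x = 0 := fun x hx => funext fun i => by
      show Ideal.Quotient.mk (Ideal.span {π}) (snf.bM.repr x i.1) = 0
      have h1 := snf.repr_apply_embedding_eq_repr_smul ⟨x, hx⟩ (i := e.symm i.1)
      rw [show snf.f (e.symm i.1) = i.1 from e.apply_symm_apply _] at h1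
      rw [Ideal.Quotient.eq_zero_iff_mem, Ideal.mem_span_singleton, h1, map_smul, Finsupp.smul_apply, smul_eq_mul]
      exact (hass i.1 i.2).dvd.mul_right _
    have htop : Submodule.span κ (Set.range fun j => q ⟨g j, hg j⟩) = ⊤ := by
      rw [eq_top_iff]
      rintro v -
      have hv : v = ∑ i : S, v i • (Pi.single i (1 : κ) : S → κ) := by
        ext j
        simp [Pi.single_apply]
      rw [hv]
      refine sum_mem fun i _ => Submodule.smul_mem _ _ ?_
      have hqi : q (snf.bM i.1) = Pi.single i (1 : κ) := funext fun j => by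
        show Ideal.Quotient.mk (Ideal.span {π}) (snf.bM.repr (snf.bM i.1) j.1) = _
        rw [Module.Basis.repr_self, Finsupp.single_apply, Pi.single_apply]
        by_cases hij : j = i
        · subst hij; simp
        · rw [if_neg hij, if_neg (fun h => hij (Subtype.ext h.symm)), map_zero]
      rw [← hqi]
      obtain ⟨m, hm, z, hz, hmz⟩ := Submodule.mem_sup.1 (hgen (snf.bM i.1).2)
      obtain ⟨c, rfl⟩ := (Submodule.mem_span_range_iff_exists_fun R).1 hz
      have h2 : snf.bM i.1 = ⟨m, hle hm⟩ + ∑ j, c j • ⟨g j, hg j⟩ := Subtype.ext (by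
        simp only [Submodule.coe_add, Submodule.coe_sum, Submodule.coe_smul]; exact hmz.symm)
      rw [h2, map_add, hqN _ hm, zero_add, map_sum]
      refine sum_mem fun j _ => ?_
      rw [map_smul, ← algebraMap_smul κ]
      exact Submodule.smul_mem _ _ (Submodule.subset_span ⟨j, rfl⟩)
    haveI : Module.Free κ (S → κ) := inferInstance
    have h1 := finrank_range_le_card (R := κ) fun j : Fin s => q ⟨g j, hg j⟩
    rw [Set.finrank, htop, finrank_top, Module.finrank_pi, Fintype.card_coe, Fintype.card_fin] at h1
    exact h1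
  obtain ⟨u, hu⟩ : ∃ u : Rˣ, π ^ S.card * u = ∏ i, a i := by
    have h1 : Associated (∏ i, a i) (π ^ S.card) := by
      rw [← Finset.prod_filter_mul_prod_filter_not Finset.univ (fun i => ¬ IsUnit (a i))]
      refine Associated.trans (associated_mul_unit_left _ _ ?_) ?_
      · rw [IsUnit.prod_iff]
        exact fun i hi => not_not.1 (Finset.mem_filter.1 hi).2
      · rw [← Finset.prod_const]
        exact Associated.prod _ _ _ fun i hi => (hass i hi).symm
    obtain ⟨u, hu⟩ := h1.symm
    exact ⟨u, hu⟩
  refine ⟨S.card, le_min hk (S.card_le_univ.trans_eq (Fintype.card_fin r)), (Matrix.of B').det,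
    det_ne_zero_of_span M' B' hB' hspan', detSpan_eq M' B' hB', ?_⟩
  rw [detSpan_eq M B hB]
  have hdet : (Matrix.of B).det = algebraMap R K (∏ i, a i) * (Matrix.of B').det := by
    rw [map_prod, ← Matrix.det_mul_column]
    congr 1
    ext i l
    rw [Matrix.of_apply, Matrix.of_apply, hBB, Pi.smul_apply, Algebra.smul_def, Matrix.of_apply]
  rw [hdet, ← hu, map_mul, map_pow, mul_comm (algebraMap R K π ^ _), mul_assoc, ← Algebra.smul_def,
    Submodule.span_singleton_smul_eq u.isUnit]

end Groth.Agent.H11DetMod
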