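import Groth.Agent.H11DetMod.Alg
import Groth.Agent.H11GenFibre.Sections
import Groth.Agent.H29Ref.Rational
import Groth.Agent.H29Ref.DDualInvertible
import Groth.Agent.H22Alg.ExtPowHom
import Groth.Agent.H26Base.DualExt
import Groth.Agent.H10Coh.FinType2
import Groth.Agent.H28Alg.RegularUFD

/-!
# The determinant of a module which is generically free, as a module of rational sections
-/

set_option autoImplicit false
set_option linter.style.haveILetI false

noncomputable section

universe u

open CategoryTheory CategoryTheory.Limits AlgebraicGeometry Opposite TopologicalSpace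
open Groth.Agent.H11Tilde

namespace Groth.Agent.H11DetMod

open Groth.Agent

variable {X : Scheme.{u}} [IsIntegral X]

/-- Coordinates of stalks in a basis of the generic stalk. -/
def coordsAt {r : ℕ} {F : X.Modules}
    (b : Module.Basis (Fin r) X.functionField (F.presheaf.stalk (genericPoint X))) (z : X) :
    F.presheaf.stalk z →ₗ[X.presheaf.stalk z] (Fin r → X.functionField) where
  toFun v := b.equivFun (H29Ref.sp F z v)
  map_add' v w := by rw [map_add, map_add]
  map_smul' a v := by
    rw [H29Ref.sp_smul, RingHom.id_apply]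
    refine (map_smul b.equivFun _ _).trans ?_
    exact algebraMap_smul X.functionField a _

/-- The lattice of a stalk. -/
def lat {r : ℕ} {F : X.Modules}
    (b : Module.Basis (Fin r) X.functionField (F.presheaf.stalk (genericPoint X))) (z : X) :
    Submodule (X.presheaf.stalk z) (Fin r → X.functionField) :=
  LinearMap.range (coordsAt b z)

variable {r : ℕ} {F L : X.Modules}
  (b : Module.Basis (Fin r) X.functionField (F.presheaf.stalk (genericPoint X)))

theorem lat_fg (hF : Coh.IsCoh F) (z : X) : (lat b z).FG := by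
  haveI := H29Ref.finite_stalk F hF.2 z
  exact Module.Finite.fg_top.map (coordsAt b z) |> fun h => by rwa [Submodule.map_top] at h

theorem span_lat (hF : Coh.IsQCoh F) (z : X) :
    Submodule.span X.functionField (lat b z : Set (Fin r → X.functionField)) = ⊤ := by
  rw [eq_top_iff]
  intro c _
  obtain ⟨U, hU, hzU, -⟩ := exists_isAffineOpen_mem_and_subset (X := X) (x := z) (U := ⊤) trivial
  obtain ⟨a, m, ha, hm⟩ := H29Ref.exists_smul_eq_germ F hF hU (H29Ref.genericPoint_mem hzU) (b.equivFun.symm c)
  have ha' : X.presheaf.germ U (genericPoint X) (H29Ref.genericPoint_mem hzU) a ≠ 0 := fun h =>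
    ha (germ_injective_of_isIntegral X _ _ (h.trans (map_zero _).symm))
  have h1 : (X.presheaf.germ U (genericPoint X) (H29Ref.genericPoint_mem hzU) a : X.functionField) • c ∈
      Submodule.span X.functionField (lat b z : Set (Fin r → X.functionField)) := by
    refine Submodule.subset_span ⟨F.presheaf.germ U z hzU m, ?_⟩
    show b.equivFun (H29Ref.sp F z _) = _
    rw [H29Ref.sp_germ, ← hm]
    refine (map_smul b.equivFun _ _).trans ?_
    rw [LinearEquiv.apply_symm_apply]
  have h2 := Submodule.smul_mem _ (X.presheaf.germ U (genericPoint X) (H29Ref.genericPoint_mem hzU) a : X.functionField)⁻¹ h1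
  rwa [smul_smul, inv_mul_cancel₀ (show (X.presheaf.germ U (genericPoint X) (H29Ref.genericPoint_mem hzU) a : X.functionField) ≠ 0 from ha'), one_smul] at h2

omit [IsIntegral X] in
theorem iMulti_comb {R M : Type u} [CommRing R] [AddCommGroup M] [Module R M] (m : Fin r → M)
    (hm : Function.Bijective fun c : Fin r → R => ∑ j, c j • m j) (c : Fin r → Fin r → R) :
    exteriorPower.ιMulti R r (fun i => ∑ j, c i j • m j) = (Matrix.of c).det • exteriorPower.ιMulti R r m := by
  let E := LinearEquiv.ofBijective (LinearMap.toSpanSingleton R _ (exteriorPower.ιMulti R r m))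
    (H26Base.DualExt.bijective_smul_iMulti m hm)
  let g : M [⋀^Fin r]→ₗ[R] R := E.symm.toLinearMap.compAlternatingMap (exteriorPower.ιMulti R r)
  have hm' : Function.Bijective (Fintype.linearCombination R m) := by
    rw [show ⇑(Fintype.linearCombination R m) = fun c : Fin r → R => ∑ j, c j • m j from
      funext fun c => Fintype.linearCombination_apply R m c]
    exact hm
  let B : Module.Basis (Fin r) R M := Module.Basis.ofEquivFun (LinearEquiv.ofBijective _ hm').symm
  have hB : ⇑B = m := funext fun i => by simp [B, Fintype.linearCombination_apply, Pi.single_apply, ite_smul]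
  have h1 : g m = 1 := by
    show E.symm _ = 1
    rw [LinearEquiv.symm_apply_eq]
    exact (one_smul R _).symm
  have h2 : g (fun i => ∑ j, c i j • m j) = (Matrix.of c).det := by
    rw [g.eq_smul_basis_det B, AlternatingMap.smul_apply, hB, h1, one_smul, Module.Basis.det_apply,
      ← Matrix.det_transpose (Matrix.of c)]
    congr 1
    ext i j
    rw [Module.Basis.toMatrix_apply, Matrix.transpose_apply, Matrix.of_apply]
    rw [← hB, map_sum, Finsupp.finsetSum_apply]
    simp [Finsupp.single_apply]
  refine E.symm.injective (h2.trans ?_)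
  exact ((map_smul E.symm _ _).trans (by rw [show E.symm (exteriorPower.ιMulti R r m) = 1 from h1, smul_eq_mul, mul_one])).symm

variable (φ : ∀ U : X.affineOpens, (L.val.obj (op U.1)) ≃ₗ[Γ(X, U.1)] ↥(⋀[Γ(X, U.1)]^r (F.val.obj (op U.1))))

/-- The rational generator of the exterior power. -/
theorem exists_detFrame
    (hφ : ∀ (U V : X.affineOpens) (h : V.1 ≤ U.1) (e : Fin r → F.val.obj (op U.1)),
      L.val.map (homOfLE h).op ((φ U).symm (exteriorPower.ιMulti _ r e)) =
        (φ V).symm (exteriorPower.ιMulti _ r (fun j => F.val.map (homOfLE h).op (e j))))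
    (hfree : FlatFun.IsFreeOfRankNear F r (genericPoint X)) :
    ∃ l0 : L.presheaf.stalk (genericPoint X), ∀ (U : X.affineOpens) (h : genericPoint X ∈ U.1) (e : Fin r → Γ(F, U.1)),
      L.presheaf.germ U.1 (genericPoint X) h ((φ U).symm (exteriorPower.ιMulti _ r e)) =
        (Matrix.of fun i => b.equivFun (F.presheaf.germ U.1 (genericPoint X) h (e i))).det • l0 := by
  obtain ⟨V, hηV, ⟨e₀⟩⟩ := hfree
  obtain ⟨m₀, hm₀⟩ := H26Base.BasisLite.exists_isBasisOn_of_chart F e₀
  obtain ⟨W, hW, hηW, hWV⟩ := exists_isAffineOpen_mem_and_subset (x := genericPoint X) (U := V) hηV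
  let m : Fin r → Γ(F, W) := fun j => F.presheaf.map (homOfLE hWV).op (m₀ j)
  let C : Fin r → Fin r → X.functionField := fun j => b.equivFun (F.presheaf.germ W (genericPoint X) hηW (m j))
  have hC : (Matrix.of C).det ≠ 0 := by
    have hsp : ⊤ ≤ Submodule.span X.functionField (Set.range C) := by
      rintro c -
      obtain ⟨B, hηB, s, hs⟩ := TopCat.Presheaf.exists_germ_eq F.presheaf (b.equivFun.symm c)
      obtain ⟨d, hd⟩ := (hm₀ (B ⊓ W) (inf_le_right.trans hWV)).2 (F.presheaf.map (homOfLE inf_le_left).op s)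
      have hd' := congrArg (F.presheaf.germ (B ⊓ W) (genericPoint X) ⟨hηB, hηW⟩) hd
      rw [TopCat.Presheaf.germ_res_apply, hs, H26Base.BasisLite.comb, map_sum] at hd'
      rw [show c = b.equivFun (b.equivFun.symm c) from (LinearEquiv.apply_symm_apply _ _).symm, ← hd', map_sum]
      refine sum_mem fun j _ => ?_
      rw [Mero.germ_smul, TopCat.Presheaf.germ_res_apply]
      rw [show F.presheaf.germ V (genericPoint X) hηV (m₀ j) = F.presheaf.germ W (genericPoint X) hηW (m j) from
        (TopCat.Presheaf.germ_res_apply F.presheaf (homOfLE hWV) _ hηW (m₀ j)).symm]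
      erw [map_smul b.equivFun]
      exact Submodule.smul_mem _ _ (Submodule.subset_span ⟨j, rfl⟩)
    have hli : LinearIndependent X.functionField C :=
      linearIndependent_of_top_le_span_of_card_eq_finrank hsp (by simp)
    exact ((Matrix.isUnit_iff_isUnit_det (Matrix.of C)).1
      (Matrix.linearIndependent_rows_iff_isUnit.1 hli)).ne_zero
  let g0 := L.presheaf.germ W (genericPoint X) hηW ((φ ⟨W, hW⟩).symm (exteriorPower.ιMulti _ r m))
  refine ⟨(Matrix.of C).det⁻¹ • g0, fun U hηU e => ?_⟩
  obtain ⟨A, hA, hηA, hAle⟩ := exists_isAffineOpen_mem_and_subset (x := genericPoint X) (U := U.1 ⊓ W) ⟨hηU, hηW⟩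
  have hAU : A ≤ U.1 := hAle.trans inf_le_left
  have hAW : A ≤ W := hAle.trans inf_le_right
  let mA : Fin r → F.val.obj (op A) := fun j => F.presheaf.map (homOfLE hAW).op (m j)
  have hmA : Function.Bijective fun c : Fin r → Γ(X, A) => ∑ j, c j • mA j := by
    have he : mA = fun j => F.presheaf.map (homOfLE (hAW.trans hWV)).op (m₀ j) :=
      funext fun j => H10Coh.mres_mres F hWV hAW (m₀ j)
    rw [he]
    exact hm₀ A (hAW.trans hWV)
  have hco : ∀ i, ∃ c : Fin r → Γ(X, A), ∑ j, c j • mA j = F.val.map (homOfLE hAU).op (e i) :=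
    fun i => hmA.2 _
  choose c hc using hco
  have hgerm : L.presheaf.germ U.1 (genericPoint X) hηU ((φ U).symm (exteriorPower.ιMulti _ r e)) =
      X.presheaf.germ A (genericPoint X) hηA (Matrix.of c).det • g0 := by
    rw [← TopCat.Presheaf.germ_res_apply L.presheaf (homOfLE hAU) (genericPoint X) hηA]
    refine (congrArg (L.presheaf.germ A (genericPoint X) hηA) ((hφ U ⟨A, hA⟩ hAU e).trans ?_)).trans
      ((Mero.germ_smul L A _ hηA (Matrix.of c).det _).trans
        (congrArg _ (TopCat.Presheaf.germ_res_apply L.presheaf (homOfLE hAW) (genericPoint X) hηA _)))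
    refine Eq.trans ?_ (congrArg (fun x : Γ(L, A) => (Matrix.of c).det • x) (hφ ⟨W, hW⟩ ⟨A, hA⟩ hAW m)).symm
    refine Eq.trans ?_ ((φ ⟨A, hA⟩).symm.map_smul (Matrix.of c).det _)
    refine congrArg (φ ⟨A, hA⟩).symm ?_
    rw [show (fun j => F.val.map (homOfLE hAU).op (e j)) = fun i => ∑ j, c i j • mA j from funext fun i => (hc i).symm]
    exact iMulti_comb mA hmA c
  have hmat : (Matrix.of fun i => b.equivFun (F.presheaf.germ U.1 (genericPoint X) hηU (e i))) =
      (Matrix.of c).map (X.presheaf.germ A (genericPoint X) hηA) * Matrix.of C := by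
    ext i l
    rw [Matrix.mul_apply, Matrix.of_apply]
    have h1 : F.presheaf.germ U.1 (genericPoint X) hηU (e i) =
        ∑ j, X.presheaf.germ A (genericPoint X) hηA (c i j) • F.presheaf.germ W (genericPoint X) hηW (m j) := by
      have h2 := congrArg (F.presheaf.germ A (genericPoint X) hηA) (hc i)
      refine Eq.trans ?_ (h2.symm.trans ((map_sum (F.presheaf.germ A (genericPoint X) hηA).hom (fun j => c i j • mA j) _).trans (Finset.sum_congr rfl fun j _ =>
        (Mero.germ_smul F A _ hηA (c i j) _).trans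
          (congrArg _ (TopCat.Presheaf.germ_res_apply F.presheaf (homOfLE hAW) (genericPoint X) hηA (m j))))))
      exact (TopCat.Presheaf.germ_res_apply F.presheaf (homOfLE hAU) (genericPoint X) hηA (e i)).symm
    rw [h1, map_sum, Finset.sum_apply]
    refine Finset.sum_congr rfl fun j _ => ?_
    erw [map_smul b.equivFun]
    rfl
  rw [hgerm, hmat, Matrix.det_mul, smul_smul, mul_assoc,
    mul_inv_cancel₀ hC, mul_one]
  exact congrArg (· • g0) (RingHom.map_det (X.presheaf.germ A (genericPoint X) hηA).hom (Matrix.of c))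

variable (l0 : L.presheaf.stalk (genericPoint X))
  (hl0 : ∀ (U : X.affineOpens) (h : genericPoint X ∈ U.1) (e : Fin r → Γ(F, U.1)),
      L.presheaf.germ U.1 (genericPoint X) h ((φ U).symm (exteriorPower.ιMulti _ r e)) =
        (Matrix.of fun i => b.equivFun (F.presheaf.germ U.1 (genericPoint X) h (e i))).det • l0)

include hl0 in
/-- Stalks of the exterior power lie in the determinant span. -/
theorem sp_mem (hL : Coh.IsQCoh L) (z : X) (l : L.presheaf.stalk z) :
    ∃ a ∈ detSpan (lat b z), H29Ref.sp L z l = a • l0 := by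
  obtain ⟨U, hU, hzU, -⟩ := exists_isAffineOpen_mem_and_subset (X := X) (x := z) (U := ⊤) trivial
  have hgen : Submodule.span Γ(X, U)
      (Set.range fun e : Fin r → Γ(F, U) => ((φ ⟨U, hU⟩).symm (exteriorPower.ιMulti _ r e) : Γ(L, U))) = ⊤ := by
    have h0 := congrArg (Submodule.map (φ ⟨U, hU⟩).symm.toLinearMap)
      (exteriorPower.ιMulti_span Γ(X, U) r (M := F.val.obj (op U)))
    rw [Submodule.map_span, ← Set.range_comp, Submodule.map_top, LinearEquiv.range] at h0
    exact h0
  have hl := (H29Ref.span_germ_affine L hL hU _ hgen ⟨z, hzU⟩).ge (Submodule.mem_top : l ∈ ⊤)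
  induction hl using Submodule.span_induction with
  | mem v hv =>
    obtain ⟨e, rfl⟩ := hv
    refine ⟨_, Submodule.subset_span ⟨fun i => coordsAt b z (F.presheaf.germ U z hzU (e i)),
      fun i => ⟨_, rfl⟩, rfl⟩, ?_⟩
    rw [H29Ref.sp_germ, hl0 ⟨U, hU⟩ (H29Ref.genericPoint_mem hzU) e]
    congr 2
    funext i
    show _ = b.equivFun (H29Ref.sp F z _)
    rw [H29Ref.sp_germ]
    rfl
  | zero => exact ⟨0, zero_mem _, by rw [map_zero, zero_smul]⟩
  | add v w _ _ hv hw =>
    obtain ⟨a, ha, hva⟩ := hv
    obtain ⟨a', ha', hwa⟩ := hw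
    exact ⟨a + a', add_mem ha ha', by rw [map_add, hva, hwa, add_smul]⟩
  | smul c v _ hv =>
    obtain ⟨a, ha, hva⟩ := hv
    refine ⟨c • a, Submodule.smul_mem _ c ha, ?_⟩
    rw [H29Ref.sp_smul, hva, smul_smul, Algebra.smul_def]
    rfl

include hl0 in
/-- The determinant span comes from stalks of the exterior power. -/
theorem exists_of_mem (hF : Coh.IsQCoh F) (z : X) {a : X.functionField} (ha : a ∈ detSpan (lat b z)) :
    ∃ l, H29Ref.sp L z l = a • l0 := by
  obtain ⟨U, hU, hzU, -⟩ := exists_isAffineOpen_mem_and_subset (X := X) (x := z) (U := ⊤) trivial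
  induction ha using Submodule.span_induction with
  | mem v hv =>
    obtain ⟨e, he, rfl⟩ := hv
    choose w hw using he
    choose t u htu using fun i => H29Blow.exists_germ_eq_smul F hF hU ⟨z, hzU⟩ (w i)
    refine ⟨(∏ i, (↑(u i)⁻¹ : X.presheaf.stalk z)) •
      L.presheaf.germ U z hzU ((φ ⟨U, hU⟩).symm (exteriorPower.ιMulti _ r t)), ?_⟩
    rw [H29Ref.sp_smul, H29Ref.sp_germ, hl0 ⟨U, hU⟩ (H29Ref.genericPoint_mem hzU) t, smul_smul, map_prod]
    congr 1
    rw [← Matrix.det_mul_column]
    congr 1
    ext i l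
    simp only [Matrix.of_apply]
    have h1 : e i = (H29Ref.spO z (↑(u i)⁻¹ : X.presheaf.stalk z) : X.functionField) •
        b.equivFun (F.presheaf.germ U (genericPoint X) (H29Ref.genericPoint_mem hzU) (t i)) := by
      rw [← hw i, ← H29Ref.sp_germ F z hzU, htu i, H29Ref.sp_smul]
      erw [map_smul b.equivFun]
      rw [smul_smul, ← map_mul, Units.inv_mul, map_one, one_smul]
      rfl
    exact (congrFun h1 l).symm
  | zero => exact ⟨0, by rw [map_zero, zero_smul]⟩
  | add v w _ _ hv hw =>
    obtain ⟨l, hl⟩ := hv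
    obtain ⟨l', hl'⟩ := hw
    exact ⟨l + l', by rw [map_add, hl, hl', add_smul]⟩
  | smul c v _ hv =>
    obtain ⟨l, hl⟩ := hv
    refine ⟨c • l, ?_⟩
    rw [H29Ref.sp_smul, hl, smul_smul, Algebra.smul_def]
    rfl

/-- A spanning rational section generates. -/
theorem good_of_span {D : X.Modules} (hD : PicF.IsInvertible D) {v : D.presheaf.stalk (genericPoint X)}
    (hv : Function.Bijective fun a : X.presheaf.stalk (genericPoint X) => a • v) {z : X}
    {δ : X.presheaf.stalk (genericPoint X)} (h1 : ∃ l, H29Ref.sp D z l = δ • v)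
    (h2 : ∀ l, ∃ c, H29Ref.sp D z l = (H11GenFibre.toK z c * δ) • v) :
    H11GenFibre.Good D (δ • v) z := by
  obtain ⟨w, hw⟩ := H11GenFibre.exists_good hD z
  obtain ⟨V, e, hzV, he, hwe⟩ := id hw
  obtain ⟨a, ha⟩ := h2 (D.presheaf.germ V z hzV e)
  rw [H29Ref.sp_germ, hwe] at ha
  obtain ⟨l, hl⟩ := h1
  obtain ⟨c, rfl⟩ := (he z hzV).2 l
  rw [H29Ref.sp_smul, H29Ref.sp_germ, hwe] at hl
  by_cases hδ : δ = 0
  · exfalso
    subst hδ
    rw [mul_zero, zero_smul] at ha
    have := hw.bijective_smul.1 (a₁ := (1 : X.presheaf.stalk (genericPoint X))) (a₂ := 0)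
      (by simp [ha])
    exact one_ne_zero this
  have hca : c * a = 1 := by
    refine H11GenFibre.toK_injective z ?_
    rw [map_mul, map_one]
    have h3 : (H11GenFibre.toK z c * (H11GenFibre.toK z a * δ)) • v = δ • v := by
      rw [mul_smul, ← ha]; exact hl
    have h4 := hv.1 h3
    rw [← mul_assoc] at h4
    exact mul_eq_right₀ hδ |>.1 h4
  have := hw.smul (IsUnit.of_mul_eq_one _ hca).unit
  rw [IsUnit.unit_spec] at this
  rwa [← hl]

/-- The reflexive hull of the top exterior power, with a rational section read off the lattices. -/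
theorem exists_hull [IsLocallyNoetherian X] (hX : Pi1.IsNormalScheme X)
    (hufd : ∀ x : X, UniqueFactorizationMonoid (X.presheaf.stalk x)) (hF : Coh.IsCoh F)
    (hL : ExtPow.IsExtPow r F L) (U : X.Opens) (hne : (U : Set X).Nonempty)
    (hfree : ∀ x ∈ U, FlatFun.IsFreeOfRankNear F r x) :
    PicF.IsInvertible (RefHull.ddual L) ∧ ∃ v : (RefHull.ddual L).presheaf.stalk (genericPoint X),
      Function.Bijective (fun a : X.presheaf.stalk (genericPoint X) => a • v) ∧
      ∀ z : X, Order.coheight z = 1 → ∀ δ : X.functionField,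
        detSpan (lat b z) = Submodule.span (X.presheaf.stalk z) {δ} →
          H11GenFibre.Good (RefHull.ddual L) (δ • v) z := by
  obtain ⟨x₀, hx₀⟩ := hne
  have hηU : genericPoint X ∈ U := H11GenFibre.gen_mem hx₀
  have hLq := H22Alg.ExtPowHom.isQCoh_of_isExtPow hF.1 hL
  obtain ⟨φ, hφ⟩ := id hL
  have hLc : Coh.IsCoh L := by
    haveI : L.IsQuasicoherent := hLq
    haveI : F.IsQuasicoherent := hF.1
    refine (H10Coh.isCoh_iff_finite_sections L).2 ⟨hLq, fun V hV => ?_⟩
    haveI : Module.Finite Γ(X, V) (F.val.obj (op V)) := H10Coh.finite_sections F hF.2 hV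
    exact Module.Finite.equiv (φ ⟨V, hV⟩).symm
  have h1 : ∀ x ∈ U, H8Props.FunDescent.StalkFree L 1 x := fun x hx => by
    obtain ⟨A, g, hxA, hg⟩ := H26Base.DualExt.exists_generator_extPow hL x (hfree x hx)
    have hG : IsGen L g := isGen_of_bijective fun W hW => by
      refine (congrArg Function.Bijective (funext fun r => ?_)).mp
        ((hg W hW).comp (Equiv.funUnique (Fin 1) Γ(X, W)).symm.bijective)
      rw [Function.comp_apply, H26Base.BasisLite.comb, Fin.sum_univ_one]
      rfl
    exact ⟨(Module.Basis.singleton (Fin 1) (X.presheaf.stalk x)).map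
      (LinearEquiv.ofBijective (LinearMap.toSpanSingleton _ _ (L.presheaf.germ A x hxA g)) (hG x hxA))⟩
  have hD := H29Ref.isInvertible_ddual L hLc U
    (U.2.dense ⟨_, hηU⟩) h1 fun x _ => hufd x
  obtain ⟨l0, hl0⟩ := exists_detFrame b φ hφ (hfree _ hηU)
  have hl0b : Function.Bijective fun a : X.presheaf.stalk (genericPoint X) => a • l0 := by
    obtain ⟨bL⟩ := h1 _ hηU
    have hsurj : Function.Surjective fun a : X.presheaf.stalk (genericPoint X) => a • l0 := fun l => by
      obtain ⟨a, -, ha⟩ := sp_mem b φ l0 hl0 hLq (genericPoint X) l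
      refine ⟨a, ha.symm.trans ?_⟩
      obtain ⟨V, hV, s, rfl⟩ := TopCat.Presheaf.exists_germ_eq L.presheaf l
      exact H29Ref.sp_germ L _ hV s
    refine ⟨fun a a' h => ?_, hsurj⟩
    by_contra hne
    have h0 : (a - a' : X.functionField) • l0 = 0 := by
      rw [sub_smul, sub_eq_zero]; exact h
    have h0' : l0 = 0 := by
      have := congrArg ((a - a' : X.functionField)⁻¹ • ·) h0
      simpa [smul_smul, inv_mul_cancel₀ (sub_ne_zero.2 hne)] using this
    obtain ⟨a'', ha''⟩ := hsurj (bL 0)
    refine bL.ne_zero 0 ?_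
    rw [← ha'']
    show a'' • l0 = 0
    rw [h0', smul_zero]
  refine ⟨hD.1, RefHull.stalkMapₗ (RefHull.bidualMap L) _ l0, ?_, fun z hz δ hδ => ?_⟩
  · refine (congrArg Function.Bijective (funext fun a => ?_)).mp ((hD.2 _ hηU).comp hl0b)
    exact map_smul _ a l0
  · have hsurj := H29Ref.surjective_bidual_stalk hX L hLc z (by rw [ringKrullDim_stalk_eq_coheight, hz]; rfl)
    refine good_of_span hD.1 ?_ ?_ ?_
    · refine (congrArg Function.Bijective (funext fun a => ?_)).mp ((hD.2 _ hηU).comp hl0b)
      exact map_smul _ a l0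
    · obtain ⟨l, hl⟩ := exists_of_mem b φ l0 hl0 hF.1 z (hδ ▸ Submodule.mem_span_singleton_self δ)
      exact ⟨_, (H29Ref.sp_stalkMap _ z l).trans ((congrArg _ hl).trans (map_smul _ _ _))⟩
    · intro d
      obtain ⟨l, rfl⟩ := hsurj d
      obtain ⟨a, ha, hla⟩ := sp_mem b φ l0 hl0 hLq z l
      obtain ⟨c, rfl⟩ := Submodule.mem_span_singleton.1 (hδ ▸ ha)
      refine ⟨c, (H29Ref.sp_stalkMap _ z l).trans ((congrArg _ hla).trans ((map_smul _ _ _).trans ?_))⟩
      rw [Algebra.smul_def]
      rfl

end Groth.Agent.H11DetMod
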