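import Groth.Agent.H11DetMod.Stalks
import Groth.Agent.H8Props.DivisorSection
import Groth.Agent.H11Ample.Basic

/-!
# Determinants of an elementary modification along an effective Cartier divisor
-/

set_option autoImplicit false
set_option linter.style.haveILetI false

noncomputable section

universe u

open CategoryTheory CategoryTheory.Limits AlgebraicGeometry Opposite TopologicalSpace
open Groth.Agent.H11Tilde Groth.Agent.H11Ample

namespace Groth.Agent.H11DetMod

open Groth.Agent

variable {X : Scheme.{u}} [IsIntegral X]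

/-- A point of coheight one has only itself and the generic point as generisations. -/
theorem eq_or_eq_generic {z w : X} (hz : Order.coheight z = 1) (h : w ⤳ z) : w = z ∨ w = genericPoint X := by
  by_cases hzw : z ⤳ w
  · exact Or.inl (h.antisymm hzw).eq
  right
  have h1 := Order.coheight_add_one_le (show z < w from ⟨h, hzw⟩)
  rw [hz] at h1
  have h0 : Order.coheight w = 0 := by
    have h2 : Order.coheight w + 1 ≤ 0 + 1 := by simpa using h1
    exact nonpos_iff_eq_zero.1 ((ENat.add_le_add_iff_right ENat.one_ne_top).1 h2)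
  have hgw : genericPoint X ⤳ w := (genericPoint_spec X).specializes (Set.mem_univ w)
  exact (Specializes.antisymm (Order.coheight_eq_zero.1 h0 hgw : genericPoint X ≤ w) hgw).eq

variable (𝓓 : X.IdealSheafData)

omit [IsIntegral X] in
/-- An equation of an ideal is a unit off its support and generates the kernel of the stalk map on it. -/
theorem eq_unit_or_ker {V : X.Opens} (hV : IsAffineOpen V) {f : Γ(X, V)}
    (hf : 𝓓.ideal ⟨V, hV⟩ = Ideal.span {f}) :
    (∀ (z : X) (hz : z ∈ V), z ∉ Set.range 𝓓.subschemeι → IsUnit (X.presheaf.germ V z hz f)) ∧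
    ∀ (d : 𝓓.subscheme) (hd : 𝓓.subschemeι d ∈ V),
      RingHom.ker (𝓓.subschemeι.stalkMap d).hom = Ideal.span {X.presheaf.germ V (𝓓.subschemeι d) hd f} := by
  constructor
  · intro z hz hzD
    rw [Scheme.IdealSheafData.range_subschemeι] at hzD
    have hsupp := 𝓓.coe_support_inter ⟨V, hV⟩
    rw [hf, Scheme.zeroLocus_span, Scheme.zeroLocus_singleton] at hsupp
    by_contra h
    exact hzD (hsupp.ge ⟨fun h' => h ((X.mem_basicOpen f z hz).1 h'), hz⟩).1
  · intro d hd
    rw [H29Blow.ker_stalkMap_subschemeι 𝓓 d ⟨V, hV⟩ hd, hf, Ideal.map_span, Set.image_singleton]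

omit [IsIntegral X] in
/-- An affine chart with an equation and the dual generator. -/
theorem exists_chart (hD : BlowUp.IsEffCartierIdeal 𝓓) (x : X) :
    ∃ (V : X.Opens) (hV : IsAffineOpen V) (f : Γ(X, V)) (s : Γ(RefHull.dual (ClSub.idealMod 𝓓), V)),
      x ∈ V ∧ f ≠ 0 ∧ 𝓓.ideal ⟨V, hV⟩ = Ideal.span {f} ∧ IsGen _ s ∧
        RefHull.ofHom (ClSub.idealModι 𝓓) V = f • s := by
  have hF : PicF.IsInvertible (ClSub.idealMod 𝓓) := H29Blow.isInvertible_of_isEffCartierIdeal 𝓓 hD
  obtain ⟨V₀, e₀, hxV, he₀⟩ := exists_gen hF x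
  obtain ⟨U, hU, hxU, hUV⟩ := exists_isAffineOpen_mem_and_subset (U := V₀) hxV
  let e : Γ(ClSub.idealMod 𝓓, U) := (ClSub.idealMod 𝓓).presheaf.map (homOfLE hUV).op e₀
  have he : IsGen (ClSub.idealMod 𝓓) e := he₀.res hUV
  obtain ⟨s, hs, hsgen⟩ := H8Props.DivisorSection.exists_dual_gen he
  refine ⟨U, hU, OmegaSh.idealSect 𝓓 U e, s, hxU, fun h0 => ?_, ?_, hsgen,
    H8Props.DivisorSection.ofHom_eq_smul he s hs (ClSub.idealModι 𝓓)⟩
  · have he0 : e = 0 := H29Blow.idealSect_injective 𝓓 U (h0.trans (map_zero _).symm)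
    have h1 := (he x hxU).1 (a₁ := (1 : X.presheaf.stalk x)) (a₂ := 0) (by simp [he0])
    exact one_ne_zero h1
  · refine le_antisymm (fun b hb => ?_) ?_
    · obtain ⟨m, rfl⟩ := (H29Blow.mem_ideal_iff_exists_idealSect 𝓓 hU b).1 hb
      obtain ⟨r, rfl⟩ := exists_coeff he m
      rw [H29Blow.idealSect_smul]
      exact Ideal.mul_mem_left _ r (Ideal.mem_span_singleton_self _)
    · rw [Ideal.span_le, Set.singleton_subset_iff]
      exact (H29Blow.mem_ideal_iff_exists_idealSect 𝓓 hU _).2 ⟨e, rfl⟩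

omit [IsIntegral X] in
theorem span_singleton_unit_smul {R K : Type u} [CommRing R] [CommRing K] [Algebra R K] {u : R} (hu : IsUnit u)
    (n : ℕ) (δ : K) : Submodule.span R {algebraMap R K u ^ n * δ} = Submodule.span R {δ} := by
  rw [← map_pow, ← Algebra.smul_def, Submodule.span_singleton_smul_eq (hu.pow n)]

variable [IsLocallyNoetherian X]

/-- The lattices of an elementary modification at points of codimension one. -/
theorem exists_exponent (hD : BlowUp.IsEffCartierIdeal 𝓓) (hDi : IsIntegral 𝓓.subscheme)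
    (hX : Pi1.IsNormalScheme X) {s r : ℕ} {G : 𝓓.subscheme.Modules} (hG : FlatMod.IsFinLocFreeOfRank s G)
    {F F' : X.Modules} (hF : Coh.IsCoh F) (hF' : Coh.IsCoh F') (a : F ⟶ F')
    (b : F' ⟶ (Scheme.Modules.pushforward 𝓓.subschemeι).obj G) (w : a ≫ b = 0)
    (hex : (ShortComplex.mk a b w).Exact) [Epi b]
    (B : Module.Basis (Fin r) X.functionField (F.presheaf.stalk (genericPoint X)))
    (B' : Module.Basis (Fin r) X.functionField (F'.presheaf.stalk (genericPoint X)))
    (hB : ∀ v, B'.equivFun (Algz.stalkMapₗ a (genericPoint X) v) = B.equivFun v) :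
    ∃ k, k ≤ min s r ∧ ∀ z : X, Order.coheight z = 1 → ∃ δ : X.functionField, δ ≠ 0 ∧
      detSpan (lat B' z) = Submodule.span (X.presheaf.stalk z) {δ} ∧
      ∀ (V : X.Opens) (hV : IsAffineOpen V) (f : Γ(X, V)) (hz : z ∈ V), 𝓓.ideal ⟨V, hV⟩ = Ideal.span {f} →
        detSpan (lat B z) = Submodule.span (X.presheaf.stalk z)
          {algebraMap (X.presheaf.stalk z) X.functionField (X.presheaf.germ V z hz f) ^ k * δ} := by
  let ι := 𝓓.subschemeι
  have hco : ∀ (z : X) (v : F.presheaf.stalk z), coordsAt B' z (Algz.stalkMapₗ a z v) = coordsAt B z v := fun z v => by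
    show B'.equivFun (H29Ref.sp F' z _) = B.equivFun (H29Ref.sp F z v)
    rw [sp_map a z v]
    exact hB _
  have hle : ∀ z, lat B z ≤ lat B' z := fun z => by
    rintro _ ⟨v, rfl⟩
    exact ⟨_, hco z v⟩
  have hoff : ∀ z, Order.coheight z = 1 → z ∉ Set.range ι → ∀ k : ℕ, ∃ δ : X.functionField, δ ≠ 0 ∧
      detSpan (lat B' z) = Submodule.span (X.presheaf.stalk z) {δ} ∧
      ∀ (V : X.Opens) (hV : IsAffineOpen V) (f : Γ(X, V)) (hz : z ∈ V), 𝓓.ideal ⟨V, hV⟩ = Ideal.span {f} →
        detSpan (lat B z) = Submodule.span (X.presheaf.stalk z)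
          {algebraMap (X.presheaf.stalk z) X.functionField (X.presheaf.germ V z hz f) ^ k * δ} := by
    intro z hz hzD k
    haveI := H26CDiv.isDVR (fun x => (hX x).2) hz
    have heq : lat B' z = lat B z := by
      refine le_antisymm ?_ (hle z)
      rintro _ ⟨v, rfl⟩
      obtain ⟨u, rfl⟩ := stalk_surjective_of_notMem ι a b w hex z hzD v
      exact ⟨u, (hco z u).symm⟩
    obtain ⟨δ, hδ, hδ'⟩ := exists_detSpan_eq (lat B' z) (lat_fg B' hF' z) (span_lat B' hF'.1 z)
    refine ⟨δ, hδ, hδ', fun V hV f hzV hf => ?_⟩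
    rw [span_singleton_unit_smul ((eq_unit_or_ker 𝓓 hV hf).1 z hzV hzD), ← heq, hδ']
  haveI := hDi
  let ξ := genericPoint 𝓓.subscheme
  have hrange : ∀ z, Order.coheight z = 1 → z ∈ Set.range ι → z = ι ξ := by
    rintro _ hz ⟨d, rfl⟩
    rcases eq_or_eq_generic hz (((genericPoint_spec 𝓓.subscheme).specializes (Set.mem_univ d)).map ι.continuous) with h | h
    · exact h.symm
    · exfalso
      obtain ⟨V, hV, f, -, hηV, hf0, hf, -⟩ := exists_chart 𝓓 hD (genericPoint X)
      have hξV : ι ξ ∈ V := by rw [show ι ξ = genericPoint X from h]; exact hηV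
      have hk := (eq_unit_or_ker 𝓓 hV hf).2 ξ hξV
      have hne : X.presheaf.germ V (ι ξ) hξV f ≠ 0 := fun h0 =>
        hf0 (germ_injective_of_isIntegral X _ _ (h0.trans (map_zero _).symm))
      have hfield : IsField (X.presheaf.stalk (ι ξ)) := by
        rw [show ι ξ = genericPoint X from h]; exact H11GenFibre.isField_generic' X
      obtain ⟨c, hc⟩ := hfield.mul_inv_cancel hne
      have h1 : X.presheaf.germ V (ι ξ) hξV f ∈ RingHom.ker (ι.stalkMap ξ).hom := hk ▸ Ideal.mem_span_singleton_self _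
      rw [RingHom.mem_ker] at h1
      have h2 := congrArg (ι.stalkMap ξ).hom hc
      rw [map_mul, h1, zero_mul, map_one] at h2
      exact zero_ne_one h2
  by_cases hξ : Order.coheight (ι ξ) = 1
  swap
  · exact ⟨0, Nat.zero_le _, fun z hz => hoff z hz (fun h => hξ (hrange z hz h ▸ hz)) 0⟩
  haveI := H26CDiv.isDVR (fun x => (hX x).2) hξ
  obtain ⟨π, hπ0, -, hker⟩ := H29Blow.exists_gen_stalk 𝓓 hD ξ
  have hprime : Prime π := by
    have h1 : (Ideal.span {π}).IsPrime := hker ▸ RingHom.ker_isPrime (ι.stalkMap ξ).hom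
    exact (Ideal.span_singleton_prime (nonZeroDivisors.ne_zero hπ0)).1 h1
  have hkill : ∀ m ∈ lat B' (ι ξ), π • m ∈ lat B (ι ξ) := by
    rintro _ ⟨v, rfl⟩
    obtain ⟨u, hu⟩ := stalk_killed ι a b w hex ξ π (RingHom.mem_ker.1 (hker ▸ Ideal.mem_span_singleton_self π)) v
    exact ⟨u, by rw [← map_smul, ← hu, hco]⟩
  obtain ⟨g, hg⟩ := stalk_generators ι a b w hex hG ξ
  have hgen : lat B' (ι ξ) ≤ lat B (ι ξ) ⊔ Submodule.span _ (Set.range fun j => coordsAt B' (ι ξ) (g j)) := by
    rintro _ ⟨v, rfl⟩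
    obtain ⟨c, u, rfl⟩ := hg v
    rw [map_add, map_sum]
    refine Submodule.add_mem_sup ⟨u, (hco _ u).symm⟩ (sum_mem fun j _ => ?_)
    rw [map_smul]
    exact Submodule.smul_mem _ _ (Submodule.subset_span ⟨j, rfl⟩)
  obtain ⟨k, hk, δ, hδ, hδ', hδB⟩ := exists_pow hprime (lat B (ι ξ)) (lat B' (ι ξ)) (lat_fg B' hF' _)
    (span_lat B hF.1 _) (hle _) hkill (fun j => coordsAt B' (ι ξ) (g j)) hgen (fun j => ⟨g j, rfl⟩)
  refine ⟨k, hk, fun z hz => ?_⟩
  by_cases hzD : z ∈ Set.range ι
  · obtain rfl := hrange z hz hzD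
    refine ⟨δ, hδ, hδ', fun V hV f hzV hf => ?_⟩
    have h1 := (eq_unit_or_ker 𝓓 hV hf).2 ξ hzV
    rw [hker, Ideal.span_singleton_eq_span_singleton] at h1
    obtain ⟨u, hu⟩ := h1
    rw [hδB, ← hu, map_mul, mul_pow, mul_comm (algebraMap _ X.functionField π ^ k) (algebraMap _ X.functionField (u : X.presheaf.stalk (ι ξ)) ^ k), mul_assoc]
    exact (span_singleton_unit_smul u.isUnit k _).symm
  · exact hoff z hz hzD k

/-- Comparison of the two hulls through rational sections. -/
theorem nonempty_iso (hX : ∀ x : X, IsIntegrallyClosed (X.presheaf.stalk x)) (hD : BlowUp.IsEffCartierIdeal 𝓓)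
    {D D' : X.Modules} (hDinv : PicF.IsInvertible D) (hD'inv : PicF.IsInvertible D')
    (v : D.presheaf.stalk (genericPoint X)) (v' : D'.presheaf.stalk (genericPoint X))
    (hv : Function.Bijective fun a : X.presheaf.stalk (genericPoint X) => a • v)
    (hv' : Function.Bijective fun a : X.presheaf.stalk (genericPoint X) => a • v') (k : ℕ)
    (h : ∀ z : X, Order.coheight z = 1 → ∃ δ : X.functionField, δ ≠ 0 ∧ H11GenFibre.Good D' (δ • v') z ∧
      ∀ (V : X.Opens) (hV : IsAffineOpen V) (f : Γ(X, V)) (hz : z ∈ V), 𝓓.ideal ⟨V, hV⟩ = Ideal.span {f} →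
        H11GenFibre.Good D
          ((algebraMap (X.presheaf.stalk z) X.functionField (X.presheaf.germ V z hz f) ^ k * δ : X.functionField) • v) z) :
    Nonempty (D' ≅ CohB1.tensorMod D (CohB1.tensorPow (RefHull.dual (ClSub.idealMod 𝓓)) k)) := by
  choose V hV f s hxV hf0 hf hs hsf using exists_chart 𝓓 hD
  have hc : ∀ x : X, ∃ c : X.functionField, c ≠ 0 ∧ H11GenFibre.Good D (c • v) x := fun x => by
    obtain ⟨v₁, hv₁⟩ := H11GenFibre.exists_good hDinv x
    obtain ⟨c, rfl⟩ := hv.2 v₁
    refine ⟨c, fun h0 => ?_, hv₁⟩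
    have := hv₁.bijective_smul.1 (a₁ := (1 : X.presheaf.stalk (genericPoint X))) (a₂ := 0) (by
      subst h0; simp)
    exact one_ne_zero this
  choose c hc0 hc using hc
  let π : X → X.functionField := fun x => X.presheaf.germ (V x) (genericPoint X) (H11GenFibre.gen_mem (hxV x)) (f x)
  have hπ0 : ∀ x, π x ≠ 0 := fun x h0 => hf0 x (germ_injective_of_isIntegral X _ _ (h0.trans (map_zero _).symm))
  let ψ : X → X.functionField := fun x => c x * (π x ^ k)⁻¹
  have hψ : ∀ x, ψ x ≠ 0 := fun x => mul_ne_zero (hc0 x) (inv_ne_zero (pow_ne_zero _ (hπ0 x)))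
  let T : X → X.Opens := fun x => V x ⊓ ⟨_, H11GenFibre.Good.isOpen (L := D) (c x • v)⟩
  have hxT : ∀ x, x ∈ T x := fun x => ⟨hxV x, hc x⟩
  have hgood' : ∀ x y, y ∈ T x → H11GenFibre.Good D' (ψ x • v') y := by
    intro x y hy
    obtain ⟨w, hw⟩ := H11GenFibre.exists_good hD'inv y
    obtain ⟨χ, rfl⟩ := hv'.2 w
    have hχ : χ ≠ 0 := fun h0 => by
      have := hw.bijective_smul.1 (a₁ := (1 : X.presheaf.stalk (genericPoint X))) (a₂ := 0) (by
        subst h0; simp)
      exact one_ne_zero this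
    have hunit : ∀ z : X, z ⤳ y → Order.coheight z = 1 →
        ∃ u : (X.presheaf.stalk z)ˣ, algebraMap (X.presheaf.stalk z) X.functionField u = ψ x / χ := by
      intro z hzy hz
      obtain ⟨δ, hδ, hg', hg⟩ := h z hz
      have hzV : z ∈ V x := hzy.mem_open (V x).2 hy.1
      have hg1 := hg (V x) (hV x) (f x) hzV (hf x)
      have hzπ : algebraMap (X.presheaf.stalk z) X.functionField (X.presheaf.germ (V x) z hzV (f x)) = π x :=
        H11GenFibre.toK_germ z hzV (f x)
      rw [hzπ] at hg1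
      have hcz : H11GenFibre.Good D (c x • v) z := H11GenFibre.Good.of_specializes hzy hy.2
      obtain ⟨u, hu⟩ := hg1.exists_unit (f := c x / (π x ^ k * δ)) (by
        rw [smul_smul, div_mul_cancel₀ _ (mul_ne_zero (pow_ne_zero _ (hπ0 x)) hδ)]; exact hcz)
      obtain ⟨u', hu'⟩ := hg'.exists_unit (f := χ / δ) (by
        rw [smul_smul, div_mul_cancel₀ _ hδ]; exact H11GenFibre.Good.of_specializes hzy hw)
      refine ⟨u * u'⁻¹, ?_⟩
      rw [Units.val_mul, map_mul, map_units_inv,
        show algebraMap (X.presheaf.stalk z) X.functionField u = _ from hu,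
        show algebraMap (X.presheaf.stalk z) X.functionField u' = _ from hu']
      have := hπ0 x
      simp only [ψ]
      field_simp
    have hreg : ∀ e : X.functionField, e ≠ 0 → (∀ z : X, z ⤳ y → Order.coheight z = 1 →
        ∃ u : (X.presheaf.stalk z)ˣ, algebraMap (X.presheaf.stalk z) X.functionField u = e) → H26CDiv.Reg y e :=
      fun e he hue => H26CDiv.reg_of_ord hX he fun z hzy hz => by
        obtain ⟨u, hu⟩ := hue z hzy hz
        exact (H26CDiv.ord_nonneg_iff_reg hX hz he).2 ⟨u, hu⟩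
    obtain ⟨p, hp⟩ := hreg _ (div_ne_zero (hψ x) hχ) hunit
    obtain ⟨q, hq⟩ := hreg (χ / ψ x) (div_ne_zero hχ (hψ x)) fun z hzy hz => by
      obtain ⟨u, hu⟩ := hunit z hzy hz
      exact ⟨u⁻¹, by rw [map_units_inv, hu, inv_div]⟩
    have hpq : p * q = 1 := by
      refine IsFractionRing.injective (X.presheaf.stalk y) X.functionField ?_
      rw [map_mul, hp, hq, map_one, div_mul_div_cancel₀ hχ, div_self (hψ x)]
    have h2 := hw.smul (IsUnit.of_mul_eq_one _ hpq).unit
    rw [IsUnit.unit_spec, smul_smul] at h2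
    rwa [show H11GenFibre.toK y p * χ = ψ x from
      (congrArg (· * χ) hp).trans (div_mul_cancel₀ _ hχ)] at h2
  choose m hm hmv using fun x => H11GenFibre.exists_frame (W := T x) fun y (hy : y ∈ T x) => hy.2
  choose m' hm' hmv' using fun x => H11GenFibre.exists_frame (W := T x) (hgood' x)
  let Q := RefHull.dual (ClSub.idealMod 𝓓)
  let sT : ∀ x, Γ(Q, T x) := fun x => Q.presheaf.map (homOfLE (inf_le_left : T x ≤ V x)).op (s x)
  obtain ⟨φ, -⟩ := exists_iso_of_gen (P := D') (Q := CohB1.tensorMod D (CohB1.tensorPow Q k)) T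
    (fun x => ⟨x, hxT x⟩) m' hm' (fun x => tm (m x) (spow (sT x) k))
    (fun x => isGen_tm (hm x) (isGen_spow ((hs x).res inf_le_left) k)) fun i j u hu => by
      let W := T i ⊓ T j
      obtain ⟨p, hp⟩ := transition (ei := m i) (hm j)
      obtain ⟨q, hq⟩ := transition (ei := sT i) ((hs j).res (inf_le_left : T j ≤ V j))
      rw [tm_res, tm_res, spow_res, spow_res, hp, hq, spow_smul, tm_smul_left, tm_smul_right, smul_smul]
      congr 1
      refine TopCat.Presheaf.section_ext X.sheaf W _ _ fun y hy => H11GenFibre.toK_injective y ?_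
      erw [H11GenFibre.toK_germ, H11GenFibre.toK_germ]
      have hη : genericPoint X ∈ W := H11GenFibre.gen_mem hy
      have hu' := congrArg (D'.presheaf.germ W (genericPoint X) hη) hu
      rw [TopCat.Presheaf.germ_res_apply, hmv' i y hy.1, H06Mod.germ_smul, TopCat.Presheaf.germ_res_apply,
        hmv' j y hy.2, smul_smul] at hu'
      have hu2 : ψ i = X.presheaf.germ W (genericPoint X) hη u * ψ j := hv'.1 hu'
      have hp' := congrArg (D.presheaf.germ W (genericPoint X) hη) hp
      rw [TopCat.Presheaf.germ_res_apply, hmv i y hy.1, H06Mod.germ_smul, TopCat.Presheaf.germ_res_apply,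
        hmv j y hy.2, smul_smul] at hp'
      have hp2 : c i = X.presheaf.germ W (genericPoint X) hη p * c j := hv.1 hp'
      have hsec : ∀ l : X, ∀ hl : W ≤ V l, RefHull.ofHom (ClSub.idealModι 𝓓) W =
          X.presheaf.map (homOfLE hl).op (f l) • Q.presheaf.map (homOfLE hl).op (s l) := fun l hl => by
        rw [← Scheme.Modules.map_smul, ← hsf l]
        rfl
      have hij := (hsec i (inf_le_left.trans inf_le_left)).symm.trans (hsec j (inf_le_right.trans inf_le_left))
      rw [← H10Coh.mres_mres Q (inf_le_left : T i ≤ V i) (inf_le_left : W ≤ T i) (s i),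
        ← H10Coh.mres_mres Q (inf_le_left : T j ≤ V j) (inf_le_right : W ≤ T j) (s j)] at hij
      change _ • Q.presheaf.map (homOfLE (inf_le_left : W ≤ T i)).op (sT i) = _ at hij
      rw [hq, smul_smul] at hij
      have hf2 := ((hs j).res (inf_le_left : T j ≤ V j)).bijective (inf_le_right : W ≤ T j) |>.1 hij
      have hπ2 : π i * X.presheaf.germ W (genericPoint X) hη q = π j := by
        have h3 := congrArg (X.presheaf.germ W (genericPoint X) hη) hf2
        rw [map_mul, TopCat.Presheaf.germ_res_apply, TopCat.Presheaf.germ_res_apply] at h3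
        exact h3
      rw [map_mul, map_pow]
      have hj := hπ0 j
      have hi := hπ0 i
      have hcj := hc0 j
      simp only [ψ] at hu2
      rw [hp2, ← hπ2, mul_pow] at hu2
      have hq0 : (X.presheaf.germ W (genericPoint X) hη q : X.functionField) ≠ 0 := fun h0 => hπ0 j (by
        rw [← hπ2, show X.presheaf.germ W (genericPoint X) hη q = 0 from h0, mul_zero])
      field_simp at hu2
      linear_combination hu2
  exact ⟨φ⟩

end Groth.Agent.H11DetMod
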