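import Groth.Agent.H11DetMod.Frame
import Groth.Agent.H16Derived.KFlat.SheafStalk
import Groth.Agent.H16Derived.ProjFormula.ClosedImm
import Groth.Agent.H29Blow.Stalk
import Groth.Agent.H26CDiv.Generization
import Groth.Prelude.Def_FlatMod2

/-!
# Stalks of an elementary modification along a closed subscheme
-/

set_option autoImplicit false
set_option linter.style.haveILetI false

noncomputable section

universe u

open CategoryTheory CategoryTheory.Limits AlgebraicGeometry Opposite TopologicalSpace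

namespace Groth.Agent.H11DetMod

open Groth.Agent

variable {X : Scheme.{u}}

/-- A module free on an open is free of that rank near its points. -/
theorem isFreeOfRankNear_of_restrict {r : ℕ} (F : X.Modules) (U : X.Opens)
    (h : FlatMod.IsFinLocFreeOfRank r (F.restrict U.ι)) (x : X) (hx : x ∈ U) :
    FlatFun.IsFreeOfRankNear F r x := by
  obtain ⟨W, hW, ⟨e⟩⟩ := h ⟨x, hx⟩
  exact ⟨U.ι ''ᵁ W, ⟨_, hW, rfl⟩, ⟨H11Tilde.restrictImageIso U.ι F W ≪≫
      (Scheme.Modules.restrictFunctor (U.ι.isoImage W).inv).mapIso e ≪≫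
      (Scheme.Modules.restrictFunctorIsoPullback (U.ι.isoImage W).inv).app _ ≪≫
      H16Derived.KFlat.Stalk.freeModPullbackIso (U.ι.isoImage W).inv r⟩⟩

variable {Z : Scheme.{u}} (ι : Z ⟶ X) [IsClosedImmersion ι] {G : Z.Modules} {F F' : X.Modules}
  (a : F ⟶ F') (b : F' ⟶ (Scheme.Modules.pushforward ι).obj G) (w : a ≫ b = 0)
  (hex : (ShortComplex.mk a b w).Exact)

omit [IsClosedImmersion ι] in
include hex in
theorem stalk_exact (x : X) (v : F'.presheaf.stalk x)
    (h : Algz.stalkMapₗ b x v = 0) : ∃ u, Algz.stalkMapₗ a x u = v :=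
  (ShortComplex.moduleCat_exact_iff _).1 ((H16Derived.KFlat.Stalk.exact_iff _).1 hex x) v h

include hex in
/-- Off the closed subscheme the map is surjective on stalks. -/
theorem stalk_surjective_of_notMem (x : X) (hx : x ∉ Set.range ι) :
    Function.Surjective (Algz.stalkMapₗ a x) := fun v => by
  haveI := H16Derived.ProjFormula.subsingleton_stalk_push ι G x hx
  exact stalk_exact ι a b w hex x v (Subsingleton.elim (α := ((Scheme.Modules.pushforward ι).obj G).presheaf.stalk x) _ _)

include hex in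
/-- At a point of the closed subscheme: the cokernel is killed by the kernel of the stalk map. -/
theorem stalk_killed (d : Z) (r : X.presheaf.stalk (ι d)) (hr : (ι.stalkMap d).hom r = 0)
    (v : F'.presheaf.stalk (ι d)) : ∃ u, Algz.stalkMapₗ a (ι d) u = r • v :=
  stalk_exact ι a b w hex (ι d) _
    ((map_smul _ r v).trans ((H16Derived.ProjFormula.killed_push ι G).smul_eq_zero d r hr _))

include hex in
/-- At a point of the closed subscheme the cokernel has as many generators as the rank. -/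
theorem stalk_generators [Epi b] {s : ℕ} (hG : FlatMod.IsFinLocFreeOfRank s G) (d : Z) :
    ∃ g : Fin s → F'.presheaf.stalk (ι d), ∀ v : F'.presheaf.stalk (ι d),
      ∃ (c : Fin s → X.presheaf.stalk (ι d)) (u : F.presheaf.stalk (ι d)),
        v = Algz.stalkMapₗ a (ι d) u + ∑ j, c j • g j := by
  obtain ⟨U, hdU, ⟨e⟩⟩ := hG d
  obtain ⟨m, hm⟩ := H26Base.BasisLite.exists_isBasisOn_of_chart G e
  have hspan : ∀ t : G.presheaf.stalk d, ∃ c : Fin s → Z.presheaf.stalk d,
      t = ∑ j, c j • G.presheaf.germ U d hdU (m j) := fun t => by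
    obtain ⟨B, hdB, σ, rfl⟩ := TopCat.Presheaf.exists_germ_eq G.presheaf t
    obtain ⟨c, hc⟩ := (hm (B ⊓ U) inf_le_right).2 (G.presheaf.map (homOfLE inf_le_left).op σ)
    refine ⟨fun j => Z.presheaf.germ (B ⊓ U) d ⟨hdB, hdU⟩ (c j), ?_⟩
    have h1 := congrArg (G.presheaf.germ (B ⊓ U) d ⟨hdB, hdU⟩) hc
    rw [TopCat.Presheaf.germ_res_apply, H26Base.BasisLite.comb] at h1
    refine h1.symm.trans ((map_sum (G.presheaf.germ (B ⊓ U) d ⟨hdB, hdU⟩).hom _ _).trans ?_)
    exact Finset.sum_congr rfl fun j _ => (Mero.germ_smul G _ _ _ _ _).trans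
      (congrArg _ (TopCat.Presheaf.germ_res_apply G.presheaf _ d _ (m j)))
  have hbs : Function.Surjective (Algz.stalkMapₗ b (ι d)) :=
    (ModuleCat.epi_iff_surjective ((DerSch.stalkFunctor X (ι d)).map b)).1 inferInstance
  have hgs : ∀ j, ∃ g, H16Derived.ProjFormula.pushStalk ι G d (Algz.stalkMapₗ b (ι d) g) =
      G.presheaf.germ U d hdU (m j) := fun j => by
    obtain ⟨t, ht⟩ := (H16Derived.ProjFormula.pushStalk_bijective ι G d).2 (G.presheaf.germ U d hdU (m j))
    obtain ⟨g, rfl⟩ := hbs t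
    exact ⟨g, ht⟩
  choose g hg using hgs
  refine ⟨g, fun v => ?_⟩
  obtain ⟨c, hc⟩ := hspan (H16Derived.ProjFormula.pushStalk ι G d (Algz.stalkMapₗ b (ι d) v))
  choose c' hc' using fun j => ι.stalkMap_surjective d (c j)
  have hz : Algz.stalkMapₗ b (ι d) (∑ j, c' j • g j) = Algz.stalkMapₗ b (ι d) v := by
    refine (H16Derived.ProjFormula.pushStalk_bijective ι G d).1 ?_
    rw [map_sum]
    refine ((map_sum (H16Derived.ProjFormula.pushStalk ι G d) _ _).trans ?_).trans hc.symm
    refine Finset.sum_congr rfl fun j _ => ?_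
    rw [map_smul]
    refine (H16Derived.ProjFormula.pushStalk_smul ι G d _ _).trans ?_
    erw [hg j, hc' j]
  obtain ⟨u, hu⟩ := stalk_exact ι a b w hex (ι d) (v - ∑ j, c' j • g j)
    ((map_sub _ _ _).trans (sub_eq_zero.2 hz.symm))
  exact ⟨c', u, by rw [hu, sub_add_cancel]⟩

variable [IsIntegral X]

omit [IsClosedImmersion ι] in
theorem sp_map (x : X) (v : F.presheaf.stalk x) :
    H29Ref.sp F' x (Algz.stalkMapₗ a x v) = Algz.stalkMapₗ a (genericPoint X) (H29Ref.sp F x v) := by
  obtain ⟨V, hxV, m, rfl⟩ := TopCat.Presheaf.exists_germ_eq F.presheaf v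
  have h1 := DerSch.stalkFunctor_map_germ x a V hxV m
  have h2 := DerSch.stalkFunctor_map_germ (genericPoint X) a V (H29Ref.genericPoint_mem hxV) m
  rw [H29Ref.sp_germ]
  exact ((congrArg (H29Ref.sp F' x) h1).trans (H29Ref.sp_germ F' x hxV _)).trans h2.symm

end Groth.Agent.H11DetMod
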